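import Cfsg.Agent.Lib.PCore.Basic
import Mathlib.GroupTheory.Transfer
import Mathlib.GroupTheory.Sylow
import Mathlib.GroupTheory.PGroup
import Mathlib.GroupTheory.QuotientGroup.Basic
import Mathlib.GroupTheory.Abelianization.Defs
import Mathlib.GroupTheory.SpecificGroups.Cyclic

/-!
Finite groups with a self-centralizing element of prime order (Brauer's (*)-groups with n = 1).
-/

namespace CfsgLib.SelfCentral

open Subgroup
open scoped Pointwise commutatorElement

variable {G : Type*} [Group G] [Finite G] {p : ℕ} {x : G}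

/-- The hypothesis: `x` has prime order `p` and `C(x) = ⟨x⟩`. -/
structure SC (p : ℕ) (x : G) : Prop where
  prime : p.Prime
  order : orderOf x = p
  cent : Subgroup.centralizer ({x} : Set G) = Subgroup.zpowers x

omit [Finite G] in
theorem SC.mem_zpowers_of_commute (h : SC p x) {g : G} (hg : g * x = x * g) : g ∈ zpowers x := by
  rw [← h.cent, mem_centralizer_singleton_iff]
  exact hg

omit [Finite G] in
theorem SC.card_zpowers (h : SC p x) : Nat.card (zpowers x) = p := by
  rw [Nat.card_zpowers, h.order]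

omit [Finite G] in
theorem SC.ne_one (h : SC p x) : x ≠ 1 := by
  intro hx
  have := h.order
  rw [hx, orderOf_one] at this
  exact h.prime.ne_one this.symm

omit [Finite G] in
theorem SC.isPGroup (h : SC p x) : IsPGroup p (zpowers x) :=
  IsPGroup.of_card (n := 1) (by rw [h.card_zpowers, pow_one])

theorem SC.exists_sylow (h : SC p x) : ∃ P : Sylow p G, (P : Subgroup G) = zpowers x := by
  have := Fact.mk h.prime
  obtain ⟨Q, hQ⟩ := h.isPGroup.exists_le_sylow
  refine ⟨Q, le_antisymm ?_ hQ⟩
  have hxQ : x ∈ (Q : Subgroup G) := hQ (mem_zpowers x)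
  have : Nontrivial (Q : Subgroup G) :=
    (Subgroup.nontrivial_iff_ne_bot _).mpr fun hb => h.ne_one (by rw [hb, mem_bot] at hxQ; exact hxQ)
  have : Nontrivial (center (Q : Subgroup G)) := Q.isPGroup'.center_nontrivial
  obtain ⟨z, hz⟩ := exists_ne (1 : center (Q : Subgroup G))
  have hzx : ((z : (Q : Subgroup G)) : G) ∈ zpowers x := by
    refine h.mem_zpowers_of_commute ?_
    have := congrArg Subtype.val (mem_center_iff.mp z.2 ⟨x, hxQ⟩)
    exact this.symm
  have hxz : x ∈ zpowers ((z : (Q : Subgroup G)) : G) := by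
    have hne : ((z : (Q : Subgroup G)) : G) ≠ 1 := fun e => hz (Subtype.ext (Subtype.ext e))
    have h1 : zpowers ((z : (Q : Subgroup G)) : G) = zpowers x := by
      refine eq_of_le_of_card_ge (zpowers_le.mpr hzx) ?_
      rw [h.card_zpowers, Nat.card_zpowers]
      have hd : orderOf ((z : (Q : Subgroup G)) : G) ∣ p := by
        have := card_dvd_of_le (zpowers_le.mpr hzx)
        rwa [h.card_zpowers, Nat.card_zpowers] at this
      rcases (Nat.dvd_prime h.prime).mp hd with h2 | h2
      · exact absurd (orderOf_eq_one_iff.mp h2) hne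
      · exact h2.ge
    rw [h1]; exact mem_zpowers x
  intro g hg
  refine h.mem_zpowers_of_commute ?_
  obtain ⟨k, hk⟩ := mem_zpowers_iff.mp hxz
  rw [← hk]
  have : Commute g ((z : (Q : Subgroup G)) : G) := congrArg Subtype.val (mem_center_iff.mp z.2 ⟨g, hg⟩)
  exact (this.zpow_right k).eq

theorem SC.not_sq_dvd (h : SC p x) : ¬ p * p ∣ Nat.card G := by
  have := Fact.mk h.prime
  obtain ⟨P, hP⟩ := h.exists_sylow
  intro hd
  have h1 := P.pow_dvd_card_of_pow_dvd_card (n := 2) (by rwa [pow_two])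
  rw [hP, h.card_zpowers, pow_two] at h1
  have := Nat.le_of_dvd h.prime.pos h1
  nlinarith [h.prime.two_le]

theorem SC.dvd_card (h : SC p x) : p ∣ Nat.card G := h.card_zpowers ▸ card_subgroup_dvd_card _

/-- Every subgroup of order `p` is conjugate to `⟨x⟩`. -/
theorem SC.exists_conj (h : SC p x) {H : Subgroup G} (hH : Nat.card H = p) :
    ∃ g : G, H = (zpowers x).map (MulAut.conj g).toMonoidHom := by
  have := Fact.mk h.prime
  obtain ⟨P, hP⟩ := h.exists_sylow
  obtain ⟨Q, hQ⟩ := (IsPGroup.of_card (G := H) (n := 1) (by rw [hH, pow_one])).exists_le_sylow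
  obtain ⟨g, rfl⟩ := MulAction.exists_smul_eq G P Q
  refine ⟨g, eq_of_le_of_card_ge (le_of_le_of_eq hQ ?_) ?_⟩
  · rw [← hP]; rfl
  · rw [card_map_of_injective (MulEquiv.injective _), h.card_zpowers, hH]

theorem SC.card_subgroups (h : SC p x) :
    Nat.card {H : Subgroup G // Nat.card H = p} = (normalizer (zpowers x : Set G)).index := by
  have := Fact.mk h.prime
  obtain ⟨P, hP⟩ := h.exists_sylow
  have hcardP : ∀ Q : Sylow p G, Nat.card (Q : Subgroup G) = p := fun Q => by
    rw [Nat.card_congr (Sylow.equiv Q P).toEquiv, hP, h.card_zpowers]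
  have e : {H : Subgroup G // Nat.card H = p} ≃ Sylow p G :=
    { toFun := fun H => (IsPGroup.of_card (G := H.1) (n := 1) (by rw [H.2, pow_one])).exists_le_sylow.choose
      invFun := fun Q => ⟨Q, hcardP Q⟩
      left_inv := fun H => Subtype.ext (by
        have h1 := (IsPGroup.of_card (G := H.1) (n := 1) (by rw [H.2, pow_one])).exists_le_sylow.choose_spec
        exact (eq_of_le_of_card_ge h1 (by rw [hcardP, H.2])).symm)
      right_inv := fun Q => Sylow.ext (by
        have h1 := (IsPGroup.of_card (G := (Q : Subgroup G)) (n := 1)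
          (by rw [hcardP, pow_one])).exists_le_sylow.choose_spec
        exact (eq_of_le_of_card_ge h1 (by rw [hcardP, hcardP])).symm) }
  rw [Nat.card_congr e, P.card_eq_index_normalizer]
  change (normalizer ((P : Subgroup G) : Set G)).index = _
  rw [hP]

/-- The number of elements of order `p`, counted by classes and by subgroups. -/
theorem SC.class_count (h : SC p x) {t : ℕ}
    (ht : Nat.card {C : ConjClasses G // ∃ g ∈ C.carrier, orderOf g = p} = t) :
    t * Nat.card (normalizer (zpowers x : Set G)) = p * (p - 1) := by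
  classical
  have := Fintype.ofFinite G
  have := Fact.mk h.prime
  set E := {g : G // orderOf g = p}
  set T := {C : ConjClasses G // ∃ g ∈ C.carrier, orderOf g = p}
  -- classes
  let cl : E → T := fun g => ⟨ConjClasses.mk g.1, g.1, ConjClasses.mem_carrier_mk, g.2⟩
  have hfib : ∀ C : T, p * Nat.card {g : E // cl g = C} = Nat.card G := by
    rintro ⟨C, g, hg0, hgo⟩
    have hg : ConjClasses.mk g = C := ConjClasses.mem_carrier_iff_mk_eq.mp hg0
    have hord : ∀ a ∈ C.carrier, orderOf a = p := fun a ha => by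
      obtain ⟨c, rfl⟩ := isConj_iff.mp (ConjClasses.mk_eq_mk_iff_isConj.mp
        (hg.trans (ConjClasses.mem_carrier_iff_mk_eq.mp ha).symm : ConjClasses.mk g = ConjClasses.mk a))
      rw [← hgo]
      exact (MulAut.conj c).orderOf_eq g
    have e1 : {a : E // cl a = ⟨C, g, hg0, hgo⟩} ≃ C.carrier :=
      { toFun := fun a => ⟨a.1.1, ConjClasses.mem_carrier_iff_mk_eq.mpr (congrArg Subtype.val a.2)⟩
        invFun := fun a => ⟨⟨a.1, hord a.1 a.2⟩, Subtype.ext (ConjClasses.mem_carrier_iff_mk_eq.mp a.2)⟩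
        left_inv := fun a => rfl
        right_inv := fun a => rfl }
    rw [Nat.card_congr e1, ← hg]
    obtain ⟨c, hc⟩ := h.exists_conj (H := zpowers g) (by rw [Nat.card_zpowers, hgo])
    have hcent : Subgroup.centralizer ({g} : Set G) = zpowers g := by
      refine le_antisymm (fun a ha => ?_) (zpowers_le.mpr (mem_centralizer_singleton_iff.mpr rfl))
      have hxg : MulAut.conj c x ∈ zpowers g := hc ▸ ⟨x, mem_zpowers x, rfl⟩
      obtain ⟨k, hk⟩ := mem_zpowers_iff.mp hxg
      have hcomm : Commute a (c * x * c⁻¹) := by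
        rw [show c * x * c⁻¹ = MulAut.conj c x from rfl, ← hk]
        exact Commute.zpow_right (mem_centralizer_singleton_iff.mp ha) k
      have h1 : c⁻¹ * a * c ∈ zpowers x := h.mem_zpowers_of_commute (by
        have h2 := hcomm.eq
        calc c⁻¹ * a * c * x = c⁻¹ * (a * (c * x * c⁻¹)) * c := by group
          _ = c⁻¹ * ((c * x * c⁻¹) * a) * c := by rw [h2]
          _ = x * (c⁻¹ * a * c) := by group)
      rw [hc]
      exact ⟨_, h1, by simp [MulAut.conj_apply, mul_assoc]⟩
    have hidx : Nat.card (ConjClasses.mk g).carrier = (Subgroup.centralizer ({g} : Set G)).index := by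
      rw [← ConjAct.orbit_eq_carrier_conjClasses, Nat.card_congr (MulAction.orbitEquivQuotientStabilizer _ _),
        Subgroup.index_eq_card, ConjAct.stabilizer_eq_centralizer]
      rfl
    rw [hidx, hcent, ← hgo, ← Nat.card_zpowers, mul_comm]
    exact Subgroup.index_mul_card _
  -- subgroups
  let sg : E → {H : Subgroup G // Nat.card H = p} := fun g => ⟨zpowers g.1, by rw [Nat.card_zpowers, g.2]⟩
  have hfib2 : ∀ H, Nat.card {g : E // sg g = H} = p - 1 := by
    intro H
    have e2 : {g : E // sg g = H} ≃ {a : H.1 // a ≠ 1} :=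
      { toFun := fun g => ⟨⟨g.1.1, by rw [← congrArg Subtype.val g.2]; exact mem_zpowers _⟩, fun e => by
          have h2 := g.1.2
          rw [congrArg Subtype.val e] at h2
          exact h.prime.ne_one (by simpa using h2.symm)⟩
        invFun := fun a => ⟨⟨a.1.1, by
          have hd : orderOf a.1.1 ∣ p := by
            have := orderOf_dvd_natCard a.1; rwa [H.2, ← Subgroup.orderOf_coe] at this
          rcases (Nat.dvd_prime h.prime).mp hd with h2 | h2
          · exact absurd (Subtype.ext (orderOf_eq_one_iff.mp h2)) a.2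
          · exact h2⟩, Subtype.ext (eq_of_le_of_card_ge (zpowers_le.mpr a.1.2) (by
          have hd : orderOf a.1.1 ∣ p := by
            have := orderOf_dvd_natCard a.1; rwa [H.2, ← Subgroup.orderOf_coe] at this
          change _ ≤ Nat.card (zpowers a.1.1)
          rw [Nat.card_zpowers, H.2]
          rcases (Nat.dvd_prime h.prime).mp hd with h2 | h2
          · exact absurd (Subtype.ext (orderOf_eq_one_iff.mp h2)) a.2
          · exact h2.ge))⟩
        left_inv := fun g => rfl
        right_inv := fun a => rfl }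
    rw [Nat.card_congr e2]
    have h3 : Fintype.card {a : H.1 // ¬ a = 1} = Fintype.card H.1 - 1 := by
      rw [Fintype.card_subtype_compl, Fintype.card_subtype_eq]
    have h4 : Fintype.card H.1 = p := by rw [← Nat.card_eq_fintype_card]; exact H.2
    rw [h4] at h3
    rw [Nat.card_eq_fintype_card]
    exact h3
  have c1 : p * Nat.card E = t * Nat.card G := by
    rw [← Nat.card_congr (Equiv.sigmaFiberEquiv cl), Nat.card_sigma, Finset.mul_sum,
      Finset.sum_congr rfl fun C _ => hfib C, Finset.sum_const, smul_eq_mul, Finset.card_univ,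
      ← Nat.card_eq_fintype_card, ht]
  have c2 : Nat.card E = (normalizer (zpowers x : Set G)).index * (p - 1) := by
    rw [← Nat.card_congr (Equiv.sigmaFiberEquiv sg), Nat.card_sigma,
      Finset.sum_congr rfl fun C _ => hfib2 C, Finset.sum_const, smul_eq_mul, Finset.card_univ,
      ← Nat.card_eq_fintype_card, h.card_subgroups]
  rw [c2, ← (normalizer (zpowers x : Set G)).index_mul_card] at c1
  have hi : 0 < (normalizer (zpowers x : Set G)).index := Nat.pos_of_ne_zero index_ne_zero_of_finite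
  refine Nat.eq_of_mul_eq_mul_left hi ?_
  calc _ = t * ((normalizer (zpowers x : Set G)).index * Nat.card (normalizer (zpowers x : Set G))) := by ring
    _ = p * ((normalizer (zpowers x : Set G)).index * (p - 1)) := c1.symm
    _ = _ := by ring

/-- On a normal `p'`-subgroup, `s ↦ s⁻¹ x s x⁻¹` is bijective. -/
theorem SC.exists_conj_eq (h : SC p x) {S : Subgroup G} [hS : S.Normal] (hp : ¬ p ∣ Nat.card S)
    {a : G} (ha : a ∈ S) : ∃ s ∈ S, s⁻¹ * x * s * x⁻¹ = a := by
  let f : S → S := fun s => ⟨(s : G)⁻¹ * x * s * x⁻¹, by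
    rw [show (s : G)⁻¹ * x * s * x⁻¹ = (s : G)⁻¹ * (x * s * x⁻¹) by group]
    exact mul_mem (S.inv_mem s.2) (hS.conj_mem _ s.2 x)⟩
  have hf : Function.Injective f := by
    intro s u e
    have e' := congrArg Subtype.val e
    simp only [f, mul_left_inj] at e'
    have h1 : (s : G) * (u : G)⁻¹ ∈ zpowers x := h.mem_zpowers_of_commute (by
      calc (s : G) * (u : G)⁻¹ * x = s * ((u : G)⁻¹ * x * u) * (u : G)⁻¹ := by group
        _ = s * ((s : G)⁻¹ * x * s) * (u : G)⁻¹ := by rw [e']
        _ = x * ((s : G) * (u : G)⁻¹) := by group)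
    have h2 : (s : G) * (u : G)⁻¹ = 1 := by
      have hd : Nat.card ↥(zpowers x ⊓ S) = 1 := by
        refine Nat.eq_one_of_dvd_coprimes (h.prime.coprime_iff_not_dvd.mpr hp) ?_ (card_dvd_of_le inf_le_right)
        have := card_dvd_of_le (inf_le_left : zpowers x ⊓ S ≤ zpowers x)
        rwa [h.card_zpowers] at this
      have hb := card_eq_one.mp hd
      have h3 : (s : G) * (u : G)⁻¹ ∈ zpowers x ⊓ S := ⟨h1, mul_mem s.2 (S.inv_mem u.2)⟩
      rwa [hb, mem_bot] at h3
    exact Subtype.ext (mul_inv_eq_one.mp h2)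
  obtain ⟨s, hs⟩ := Finite.surjective_of_injective hf ⟨a, ha⟩
  exact ⟨s, s.2, congrArg Subtype.val hs⟩

theorem SC.inf_eq_bot (h : SC p x) {S : Subgroup G} (hp : ¬ p ∣ Nat.card S) : zpowers x ⊓ S = ⊥ := by
  refine card_eq_one.mp (Nat.eq_one_of_dvd_coprimes (h.prime.coprime_iff_not_dvd.mpr hp) ?_
    (card_dvd_of_le inf_le_right))
  have := card_dvd_of_le (inf_le_left : zpowers x ⊓ S ≤ zpowers x)
  rwa [h.card_zpowers] at this

theorem SC.card_normal_mod (h : SC p x) (S : Subgroup G) [hS : S.Normal] (hp : ¬ p ∣ Nat.card S) :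
    Nat.card S % p = 1 := by
  have := Fact.mk h.prime
  letI : MulAction (zpowers x) S := MulAction.compHom S
    ((MulAut.conjNormal (H := S)).comp (zpowers x).subtype)
  have hfix : MulAction.fixedPoints (zpowers x) S = {1} := by
    ext s
    refine ⟨fun hs => ?_, fun hs => ?_⟩
    · have e : x * (s : G) * x⁻¹ = s := congrArg Subtype.val (hs ⟨x, mem_zpowers x⟩)
      have h1 : (s : G) ∈ zpowers x := h.mem_zpowers_of_commute
        (by calc (s : G) * x = x * (s : G) * x⁻¹ * x := by rw [e]
              _ = x * s := by group)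
      have h2 : (s : G) ∈ zpowers x ⊓ S := ⟨h1, s.2⟩
      rw [h.inf_eq_bot hp, mem_bot] at h2
      exact Subtype.ext h2
    · rintro ⟨g, hg⟩
      rw [show s = 1 from hs]
      exact map_one (MulAut.conjNormal (H := S) g)
  have := h.isPGroup.card_modEq_card_fixedPoints (α := S)
  rw [hfix] at this
  simpa [Nat.ModEq, Nat.mod_eq_of_lt h.prime.one_lt] using this

theorem SC.inf_normalizer (h : SC p x) (S : Subgroup G) [hS : S.Normal] (hp : ¬ p ∣ Nat.card S) :
    S ⊓ normalizer (zpowers x : Set G) = ⊥ := by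
  rw [eq_bot_iff]
  rintro s ⟨hs, hn⟩
  have h1 : s * x * s⁻¹ * x⁻¹ ∈ zpowers x ⊓ S := by
    refine ⟨mul_mem ((mem_normalizer_iff.mp hn x).mp (mem_zpowers x)) ((zpowers x).inv_mem (mem_zpowers x)), ?_⟩
    rw [show s * x * s⁻¹ * x⁻¹ = s * (x * s⁻¹ * x⁻¹) by group]
    exact mul_mem hs (hS.conj_mem _ (S.inv_mem hs) x)
  rw [h.inf_eq_bot hp, mem_bot] at h1
  have h2 : s ∈ zpowers x := h.mem_zpowers_of_commute (by
    calc s * x = s * x * s⁻¹ * x⁻¹ * (x * s) := by group
      _ = x * s := by rw [h1, one_mul])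
  rw [← h.inf_eq_bot hp]
  exact ⟨h2, hs⟩

theorem SC.card_sup_normalizer (h : SC p x) (S : Subgroup G) [hS : S.Normal] (hp : ¬ p ∣ Nat.card S) :
    Nat.card ↥(S ⊔ normalizer (zpowers x : Set G)) =
      Nat.card S * Nat.card (normalizer (zpowers x : Set G)) := by
  let N := normalizer (zpowers x : Set G)
  rw [← Nat.card_prod]
  symm
  refine Nat.card_congr (Equiv.ofBijective
    (fun a : S × N => (⟨(a.1 : G) * a.2, mul_mem (mem_sup_left a.1.2) (mem_sup_right a.2.2)⟩ :
      ↥(S ⊔ N))) ⟨?_, ?_⟩)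
  · rintro ⟨s, n⟩ ⟨s', n'⟩ e
    have e' : (s : G) * n = s' * n' := congrArg Subtype.val e
    have e2 : (s' : G)⁻¹ * s = n' * (n : G)⁻¹ := by
      calc (s' : G)⁻¹ * s = (s' : G)⁻¹ * (s * n) * (n : G)⁻¹ := by group
        _ = (s' : G)⁻¹ * (s' * n') * (n : G)⁻¹ := by rw [e']
        _ = n' * (n : G)⁻¹ := by group
    have h1 : (s' : G)⁻¹ * s ∈ S ⊓ N := ⟨mul_mem (S.inv_mem s'.2) s.2, e2 ▸ mul_mem n'.2 (N.inv_mem n.2)⟩
    rw [h.inf_normalizer S hp, mem_bot] at h1
    have hs : s' = s := Subtype.ext (inv_mul_eq_one.mp h1)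
    subst hs
    exact Prod.ext rfl (Subtype.ext (mul_left_cancel e'))
  · rintro ⟨g, hg⟩
    have hg' : g ∈ ((S : Set G) * (N : Set G)) := by rw [← normal_mul]; exact hg
    obtain ⟨s, hs, n, hn, rfl⟩ := hg'
    exact ⟨(⟨s, hs⟩, ⟨n, hn⟩), rfl⟩

/-- (S4496, p' case.) -/
theorem SC.card_normal_dvd (h : SC p x) (S : Subgroup G) [S.Normal] (hp : ¬ p ∣ Nat.card S) :
    Nat.card S ∣ (normalizer (zpowers x : Set G)).index := by
  have h1 := card_subgroup_dvd_card (S ⊔ normalizer (zpowers x : Set G))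
  rw [h.card_sup_normalizer S hp, ← (normalizer (zpowers x : Set G)).index_mul_card] at h1
  exact Nat.dvd_of_mul_dvd_mul_right Nat.card_pos h1

theorem SC.quotient (h : SC p x) (S : Subgroup G) [hS : S.Normal] (hp : ¬ p ∣ Nat.card S) :
    SC p (QuotientGroup.mk x : G ⧸ S) := by
  refine ⟨h.prime, ?_, le_antisymm (fun q hq => ?_) (zpowers_le.mpr (mem_centralizer_singleton_iff.mpr rfl))⟩
  · have hd : orderOf (QuotientGroup.mk' S x) ∣ p := h.order ▸ orderOf_map_dvd _ x
    rcases (Nat.dvd_prime h.prime).mp hd with h1 | h1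
    · exfalso
      have h2 : x ∈ zpowers x ⊓ S :=
        ⟨mem_zpowers x, (QuotientGroup.eq_one_iff x).mp (orderOf_eq_one_iff.mp h1)⟩
      rw [h.inf_eq_bot hp, mem_bot] at h2
      exact h.ne_one h2
    · exact h1
  · obtain ⟨g, rfl⟩ := QuotientGroup.mk_surjective q
    rw [mem_centralizer_singleton_iff, ← QuotientGroup.mk_mul, ← QuotientGroup.mk_mul] at hq
    have hmem : g⁻¹ * x * g * x⁻¹ ∈ S := by
      rw [← QuotientGroup.eq_one_iff]
      simp only [QuotientGroup.mk_mul, QuotientGroup.mk_inv] at hq ⊢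
      rw [mul_assoc (a := (g : G ⧸ S)⁻¹), ← hq]
      group
    obtain ⟨s, hs, hse⟩ := h.exists_conj_eq hp hmem
    have e' : s⁻¹ * x * s = g⁻¹ * x * g := mul_right_cancel hse
    have h1 : g * s⁻¹ ∈ zpowers x := h.mem_zpowers_of_commute (by
      calc g * s⁻¹ * x = g * (s⁻¹ * x * s) * s⁻¹ := by group
        _ = g * (g⁻¹ * x * g) * s⁻¹ := by rw [e']
        _ = x * (g * s⁻¹) := by group)
    obtain ⟨k, hk⟩ := mem_zpowers_iff.mp h1
    refine mem_zpowers_iff.mpr ⟨k, ?_⟩
    rw [← QuotientGroup.mk_zpow, hk, QuotientGroup.mk_mul, QuotientGroup.mk_inv,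
      (QuotientGroup.eq_one_iff s).mpr hs, inv_one, mul_one]

theorem SC.mem_of_dvd (h : SC p x) (S : Subgroup G) [hS : S.Normal] (hp : p ∣ Nat.card S) :
    x ∈ S := by
  have := Fact.mk h.prime
  obtain ⟨y, hy⟩ := exists_prime_orderOf_dvd_card' (G := S) p hp
  obtain ⟨c, hc⟩ := h.exists_conj (H := zpowers (y : G)) (by rw [Nat.card_zpowers, Subgroup.orderOf_coe, hy])
  have h1 : MulAut.conj c x ∈ S := zpowers_le.mpr y.2 (hc ▸ ⟨x, mem_zpowers x, rfl⟩)
  have h2 := hS.conj_mem _ h1 c⁻¹
  simpa [MulAut.conj_apply, mul_assoc] using h2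

theorem SC.sup_normalizer_eq_top (h : SC p x) (S : Subgroup G) [hS : S.Normal] (hp : p ∣ Nat.card S) :
    S ⊔ normalizer (zpowers x : Set G) = ⊤ := by
  have := Fact.mk h.prime
  obtain ⟨P, hP⟩ := h.exists_sylow
  rw [← hP, sup_comm]
  exact Sylow.normalizer_sup_eq_top' P (hP ▸ zpowers_le.mpr (h.mem_of_dvd S hp))

omit [Finite G] in
theorem SC.normalizer_comm (h : SC p x) {a b : G} (ha : a ∈ normalizer (zpowers x : Set G))
    (hb : b ∈ normalizer (zpowers x : Set G)) : a * b * a⁻¹ * b⁻¹ ∈ zpowers x := by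
  obtain ⟨i, hi⟩ := mem_zpowers_iff.mp ((mem_normalizer_iff.mp ha x).mp (mem_zpowers x))
  obtain ⟨j, hj⟩ := mem_zpowers_iff.mp ((mem_normalizer_iff.mp hb x).mp (mem_zpowers x))
  have e : ∀ (c : G) (m n : ℤ), x ^ m = c * x * c⁻¹ → c * x ^ n * c⁻¹ = x ^ (m * n) := by
    intro c m n hm
    rw [← conj_zpow, ← hm, zpow_mul]
  have h1 : (a * b) * x * (a * b)⁻¹ = (b * a) * x * (b * a)⁻¹ := by
    calc (a * b) * x * (a * b)⁻¹ = a * (b * x * b⁻¹) * a⁻¹ := by group
      _ = x ^ (i * j) := by rw [← hj, e a i j hi]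
      _ = b * (a * x * a⁻¹) * b⁻¹ := by rw [← hi, e b j i hj, mul_comm]
      _ = _ := by group
  have h2 : a⁻¹ * b⁻¹ * (a * b) ∈ zpowers x := h.mem_zpowers_of_commute (by
    calc a⁻¹ * b⁻¹ * (a * b) * x
        = a⁻¹ * b⁻¹ * ((a * b) * x * (a * b)⁻¹) * (a * b) := by group
      _ = a⁻¹ * b⁻¹ * ((b * a) * x * (b * a)⁻¹) * (a * b) := by rw [h1]
      _ = x * (a⁻¹ * b⁻¹ * (a * b)) := by group)
  have h3 := (mem_normalizer_iff.mp (mul_mem hb ha) _).mp h2
  rw [show b * a * (a⁻¹ * b⁻¹ * (a * b)) * (b * a)⁻¹ = a * b * a⁻¹ * b⁻¹ by group] at h3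
  exact h3

/-- (S4496, p case.) -/
theorem SC.commutator_le (h : SC p x) (S : Subgroup G) [hS : S.Normal] (hp : p ∣ Nat.card S) :
    _root_.commutator G ≤ S := by
  have hsup := h.sup_normalizer_eq_top S hp
  have hxS := h.mem_of_dvd S hp
  have hcomm : ∀ a b : G ⧸ S, a * b = b * a := by
    have hlift : ∀ a : G ⧸ S, ∃ n ∈ normalizer (zpowers x : Set G), (QuotientGroup.mk n : G ⧸ S) = a := by
      intro a
      obtain ⟨g, rfl⟩ := QuotientGroup.mk_surjective a
      have hg : g ∈ ((S : Set G) * (normalizer (zpowers x : Set G) : Set G)) := by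
        rw [← normal_mul, hsup]; trivial
      obtain ⟨s, hs, n, hn, rfl⟩ := hg
      exact ⟨n, hn, by rw [QuotientGroup.mk_mul, (QuotientGroup.eq_one_iff s).mpr hs, one_mul]⟩
    intro a b
    obtain ⟨m, hm, rfl⟩ := hlift a
    obtain ⟨n, hn, rfl⟩ := hlift b
    have h1 : (QuotientGroup.mk (m * n * m⁻¹ * n⁻¹) : G ⧸ S) = 1 :=
      (QuotientGroup.eq_one_iff _).mpr (zpowers_le.mpr hxS (h.normalizer_comm hm hn))
    simp only [QuotientGroup.mk_mul, QuotientGroup.mk_inv] at h1
    exact commutatorElement_eq_one_iff_mul_comm.mp h1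
  exact Subgroup.Normal.quotient_commutative_iff_commutator_le.mp ⟨⟨hcomm⟩⟩

/-- If `p ∤ |G'|` then `G'` has index `p` and `N(⟨x⟩) = ⟨x⟩`. -/
theorem SC.not_dvd_commutator (h : SC p x) (hp : ¬ p ∣ Nat.card (_root_.commutator G)) :
    (_root_.commutator G).index = p ∧ normalizer (zpowers x : Set G) = zpowers x := by
  constructor
  · have hq := h.quotient (_root_.commutator G) hp
    have hall : zpowers (QuotientGroup.mk x : G ⧸ _root_.commutator G) = ⊤ := by
      rw [eq_top_iff, ← hq.cent]
      intro q _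
      rw [mem_centralizer_singleton_iff]
      exact mul_comm (G := Abelianization G) q (QuotientGroup.mk x)
    rw [Subgroup.index_eq_card, ← Subgroup.card_top, ← hall, hq.card_zpowers]
  · refine le_antisymm (fun n hn => ?_) le_normalizer
    have h1 : n * x * n⁻¹ * x⁻¹ ∈ zpowers x ⊓ _root_.commutator G :=
      ⟨mul_mem ((mem_normalizer_iff.mp hn x).mp (mem_zpowers x)) ((zpowers x).inv_mem (mem_zpowers x)),
        Subgroup.commutator_mem_commutator (mem_top n) (mem_top x)⟩
    rw [h.inf_eq_bot hp, mem_bot] at h1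
    exact h.mem_zpowers_of_commute (by
      calc n * x = n * x * n⁻¹ * x⁻¹ * (x * n) := by group
        _ = x * n := by rw [h1, one_mul])

/-- `t = p - 1` forces `p ∤ |G'|`. -/
theorem SC.not_dvd_of_count (h : SC p x) {t : ℕ}
    (ht : Nat.card {C : ConjClasses G // ∃ g ∈ C.carrier, orderOf g = p} = t) (htp : t = p - 1) :
    ¬ p ∣ Nat.card (_root_.commutator G) := by
  have := Fact.mk h.prime
  obtain ⟨P, hP⟩ := h.exists_sylow
  have hN : Nat.card (normalizer (zpowers x : Set G)) = p := by
    have := h.class_count ht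
    rw [htp, mul_comm p] at this
    exact Nat.eq_of_mul_eq_mul_left (by have := h.prime.two_le; omega) this
  have hPN : normalizer (zpowers x : Set G) = zpowers x :=
    (eq_of_le_of_card_ge le_normalizer (by rw [hN, h.card_zpowers])).symm
  have hle : normalizer ((P : Subgroup G) : Set G) ≤ Subgroup.centralizer ((P : Subgroup G) : Set G) := by
    rw [hP, hPN]
    intro a ha b hb
    obtain ⟨i, rfl⟩ := mem_zpowers_iff.mp ha
    obtain ⟨j, rfl⟩ := mem_zpowers_iff.mp hb
    rw [← zpow_add, ← zpow_add, add_comm]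
  have hle' : _root_.commutator G ≤ (MonoidHom.transferSylow P hle).ker := by
    rw [_root_.commutator_def, Subgroup.commutator_le]
    intro a _ b _
    rw [MonoidHom.mem_ker, map_commutatorElement, commutatorElement_eq_one_iff_mul_comm]
    set u := MonoidHom.transferSylow P hle a
    set v := MonoidHom.transferSylow P hle b
    exact Subtype.ext (hle (le_normalizer v.2) _ u.2)
  exact fun hd => MonoidHom.not_dvd_card_ker_transferSylow P hle (hd.trans (card_dvd_of_le hle'))

theorem SC.count_iff (h : SC p x) {t : ℕ}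
    (ht : Nat.card {C : ConjClasses G // ∃ g ∈ C.carrier, orderOf g = p} = t) :
    t = p - 1 ↔ ¬ p ∣ Nat.card (_root_.commutator G) := by
  refine ⟨h.not_dvd_of_count ht, fun hp => ?_⟩
  have := h.class_count ht
  rw [(h.not_dvd_commutator hp).2, h.card_zpowers, mul_comm p] at this
  exact Nat.eq_of_mul_eq_mul_right h.prime.pos this

theorem SC.count_le (h : SC p x) {t : ℕ}
    (ht : Nat.card {C : ConjClasses G // ∃ g ∈ C.carrier, orderOf g = p} = t) : t ≤ p - 1 := by
  have hc := h.class_count ht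
  have hge : p ≤ Nat.card (normalizer (zpowers x : Set G)) :=
    h.card_zpowers.symm.trans_le (Nat.le_of_dvd Nat.card_pos (card_dvd_of_le le_normalizer))
  have h1 : t * p ≤ (p - 1) * p := by
    rw [mul_comm (p - 1), ← hc]
    exact Nat.mul_le_mul_left t hge
  exact Nat.le_of_mul_le_mul_right h1 h.prime.pos

theorem SC.index_commutator (h : SC p x) {t : ℕ}
    (ht : Nat.card {C : ConjClasses G // ∃ g ∈ C.carrier, orderOf g = p} = t) :
    (t ≠ p - 1 → (_root_.commutator G).index * t ≤ p - 1) ∧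
      (t = p - 1 → (_root_.commutator G).index = p) := by
  refine ⟨fun hne => ?_, fun he => (h.not_dvd_commutator ((h.count_iff ht).mp he)).1⟩
  have hd : p ∣ Nat.card (_root_.commutator G) := by
    by_contra hn
    exact hne ((h.count_iff ht).mpr hn)
  set N := normalizer (zpowers x : Set G)
  have hidx : (_root_.commutator G).index = (_root_.commutator G).relIndex N := by
    rw [← relIndex_top_right, ← h.sup_normalizer_eq_top _ hd, relIndex_sup_left]
  have hdv : (_root_.commutator G).relIndex N ∣ (zpowers x).relIndex N :=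
    relIndex_dvd_of_le_left N (zpowers_le.mpr (h.mem_of_dvd _ hd))
  obtain ⟨e, he⟩ : ∃ e, Nat.card N = p * e := ⟨(zpowers x).relIndex N, by
    rw [← relIndex_bot_left, ← relIndex_mul_relIndex ⊥ (zpowers x) N bot_le le_normalizer,
      relIndex_bot_left, h.card_zpowers]⟩
  have hrel : (zpowers x).relIndex N = e := by
    have h1 : p * (zpowers x).relIndex N = p * e := by
      rw [← he, ← h.card_zpowers, ← relIndex_bot_left, relIndex_mul_relIndex ⊥ (zpowers x) N bot_le le_normalizer,
        relIndex_bot_left]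
    exact Nat.eq_of_mul_eq_mul_left h.prime.pos h1
  have hcnt := h.class_count ht
  change t * Nat.card N = _ at hcnt
  rw [he] at hcnt
  have h3 : t * e = p - 1 := Nat.eq_of_mul_eq_mul_left h.prime.pos (by rw [← hcnt]; ring)
  rw [hidx, mul_comm, ← h3]
  refine Nat.mul_le_mul_left t (Nat.le_of_dvd ?_ (hrel ▸ hdv))
  rcases Nat.eq_zero_or_pos e with h0 | h0
  · exfalso
    rw [h0, mul_zero] at he
    exact Nat.card_pos.ne' he
  · exact h0

theorem SC.pPrimeCore_le (h : SC p x) : Cfsg.pPrimeCore p G ≤ _root_.commutator G := by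
  have := Fact.mk h.prime
  intro a ha
  obtain ⟨s, -, hs⟩ := h.exists_conj_eq (CfsgLib.PCore.not_dvd_card_pPrimeCore) ha
  have h1 : s⁻¹ * x * s * x⁻¹ = ⁅s⁻¹, x⁆ := by rw [commutatorElement_def, inv_inv]
  rw [← hs, h1]
  exact Subgroup.commutator_mem_commutator (mem_top _) (mem_top _)


/-- All elements of order `p` lie in a normal subgroup of order divisible by `p`; restriction. -/
theorem SC.sub (h : SC p x) (H : Subgroup G) (hx : x ∈ H) : SC p (⟨x, hx⟩ : H) := by
  refine ⟨h.prime, by rw [← Subgroup.orderOf_coe]; exact h.order,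
    le_antisymm (fun g hg => ?_) (zpowers_le.mpr (mem_centralizer_singleton_iff.mpr rfl))⟩
  obtain ⟨k, hk⟩ := mem_zpowers_iff.mp
    (h.mem_zpowers_of_commute (congrArg Subtype.val (mem_centralizer_singleton_iff.mp hg)))
  exact mem_zpowers_iff.mpr ⟨k, Subtype.ext (by simpa using hk)⟩

/-- For `p ∣ |G'|` the quotient `G'/O_{p'}(G)` is simple. -/
theorem SC.simple_quotient (h : SC p x) (hp : p ∣ Nat.card (_root_.commutator G))
    (hO : ((Cfsg.pPrimeCore p G).subgroupOf (_root_.commutator G)).Normal) :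
    IsSimpleGroup (↥(_root_.commutator G) ⧸ (Cfsg.pPrimeCore p G).subgroupOf (_root_.commutator G)) := by
  have := Fact.mk h.prime
  set D := _root_.commutator G
  set O := Cfsg.pPrimeCore p G
  have hxD : x ∈ D := h.mem_of_dvd D hp
  have hD := h.sub D hxD
  have hxO : x ∉ O := fun hx => by
    have h2 : x ∈ zpowers x ⊓ O := ⟨mem_zpowers x, hx⟩
    rw [h.inf_eq_bot CfsgLib.PCore.not_dvd_card_pPrimeCore, mem_bot] at h2
    exact h.ne_one h2
  have : Nontrivial (↥D ⧸ O.subgroupOf D) :=
    ⟨⟨QuotientGroup.mk ⟨x, hxD⟩, 1, fun e => hxO (mem_subgroupOf.mp ((QuotientGroup.eq_one_iff _).mp e))⟩⟩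
  refine ⟨fun W hW => ?_⟩
  set L := W.comap (QuotientGroup.mk' (O.subgroupOf D)) with hL
  have hLn : L.Normal := hW.comap _
  have hWL : W = L.map (QuotientGroup.mk' (O.subgroupOf D)) := by
    rw [hL, map_comap_eq_self_of_surjective (QuotientGroup.mk'_surjective _)]
  by_cases hpL : p ∣ Nat.card L
  · right
    let Ω : Subgroup G := closure {g : G | orderOf g = p}
    have hΩn : Ω.Normal := ⟨fun n hn g => by
      have h1 : Ω.map (MulAut.conj g).toMonoidHom ≤ Ω := by
        rw [MonoidHom.map_closure, closure_le]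
        rintro _ ⟨b, hb, rfl⟩
        exact subset_closure (by rw [Set.mem_setOf_eq]; exact ((MulAut.conj g).orderOf_eq b).trans hb)
      exact h1 ⟨n, hn, rfl⟩⟩
    have hΩp : p ∣ Nat.card Ω :=
      h.card_zpowers ▸ card_dvd_of_le (zpowers_le.mpr (subset_closure h.order))
    have hΩL : Ω ≤ L.map D.subtype := by
      rw [closure_le]
      intro g hg
      have hg' : orderOf g = p := hg
      obtain ⟨c, hc⟩ := h.exists_conj (H := zpowers g) (by rw [Nat.card_zpowers, hg'])
      have hgD : g ∈ D := by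
        have h1 : g ∈ (zpowers x).map (MulAut.conj c).toMonoidHom := hc ▸ mem_zpowers g
        obtain ⟨y, hy, rfl⟩ := h1
        exact (inferInstance : D.Normal).conj_mem y (zpowers_le.mpr hxD hy) c
      obtain ⟨c', hc'⟩ := hD.exists_conj (H := zpowers (⟨g, hgD⟩ : D))
        (by rw [Nat.card_zpowers, ← Subgroup.orderOf_coe]; exact hg')
      have h1 : (⟨g, hgD⟩ : D) ∈ (zpowers (⟨x, hxD⟩ : D)).map (MulAut.conj c').toMonoidHom :=
        hc' ▸ mem_zpowers _
      obtain ⟨y, hy, hye⟩ := h1
      refine ⟨⟨g, hgD⟩, ?_, rfl⟩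
      rw [← hye]
      exact hLn.conj_mem y (zpowers_le.mpr (hD.mem_of_dvd L hpL) hy) c'
    have hDL : L = ⊤ := by
      rw [eq_top_iff]
      rintro d -
      obtain ⟨l, hl, hle⟩ := hΩL (h.commutator_le Ω hΩp d.2)
      rwa [← Subtype.ext (show (l : G) = d from hle)]
    rw [hWL, hDL, map_top_of_surjective _ (QuotientGroup.mk'_surjective _)]
  · left
    have h1 : L ≤ O.subgroupOf D := by
      refine (CfsgLib.PCore.le_pPrimeCore_of_not_dvd hLn hpL).trans fun a ha => ?_
      rw [mem_subgroupOf]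
      have hchar : (Cfsg.pPrimeCore p D).Characteristic := by
        refine characteristic_iff_map_le.mpr fun φ => ?_
        refine CfsgLib.PCore.le_pPrimeCore_of_not_dvd ?_ ?_
        · exact Subgroup.Normal.map inferInstance φ.toMonoidHom φ.surjective
        · rw [card_map_of_injective φ.injective]
          exact CfsgLib.PCore.not_dvd_card_pPrimeCore
      refine CfsgLib.PCore.le_pPrimeCore_of_not_dvd (N := (Cfsg.pPrimeCore p D).map D.subtype)
        inferInstance ?_ ⟨a, ha, rfl⟩
      rw [card_map_of_injective D.subtype_injective]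
      exact CfsgLib.PCore.not_dvd_card_pPrimeCore
    rw [hWL, eq_bot_iff, map_le_iff_le_comap, MonoidHom.comap_bot, QuotientGroup.ker_mk']
    exact h1

theorem SC.structure_derived (h : SC p x) {t : ℕ}
    (ht : Nat.card {C : ConjClasses G // ∃ g ∈ C.carrier, orderOf g = p} = t) :
    Cfsg.pPrimeCore p G ≤ _root_.commutator G ∧
      (t ≠ p - 1 → ∀ _ : ((Cfsg.pPrimeCore p G).subgroupOf (_root_.commutator G)).Normal,
        IsSimpleGroup (↥(_root_.commutator G) ⧸ (Cfsg.pPrimeCore p G).subgroupOf (_root_.commutator G))) ∧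
      (t = p - 1 → _root_.commutator G = Cfsg.pPrimeCore p G) := by
  have := Fact.mk h.prime
  refine ⟨h.pPrimeCore_le, fun hne hO => h.simple_quotient ?_ hO, fun he => le_antisymm
    (CfsgLib.PCore.le_pPrimeCore_of_not_dvd inferInstance ((h.count_iff ht).mp he)) h.pPrimeCore_le⟩
  by_contra hn
  exact hne ((h.count_iff ht).mpr hn)

theorem SC.normal_hall_iff (h : SC p x) {t : ℕ}
    (ht : Nat.card {C : ConjClasses G // ∃ g ∈ C.carrier, orderOf g = p} = t) (n : ℕ)
    (hn : Nat.card {H : Subgroup G // Nat.card H = p} = 1 + n * p) :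
    ((∃ S : Subgroup G, S.Normal ∧ Nat.card S = 1 + n * p) ↔
        (t = p - 1 ∨ (t < p - 1 ∧ derivedSeries G 2 ≠ derivedSeries G 1))) ∧
      (t = p - 1 → Nat.card (_root_.commutator G) = 1 + n * p ∧ IsCyclic (G ⧸ _root_.commutator G) ∧
        (_root_.commutator G).index = p) ∧
      (t < p - 1 → derivedSeries G 2 ≠ derivedSeries G 1 →
        Nat.card (derivedSeries G 2) = 1 + n * p ∧ Nat.card (_root_.commutator G) = p * (1 + n * p)) := by
  have := Fact.mk h.prime
  set D := _root_.commutator G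
  set N := normalizer (zpowers x : Set G)
  have hd1 : derivedSeries G 1 = D := derivedSeries_one G
  have hd2 : derivedSeries G 2 = ⁅D, D⁆ := by rw [derivedSeries_succ, hd1]
  rw [h.card_subgroups] at hn
  have hidx : N.index = 1 + n * p := hn
  -- case t = p - 1
  have hA : t = p - 1 → Nat.card D = 1 + n * p ∧ IsCyclic (G ⧸ D) ∧ D.index = p := by
    intro he
    obtain ⟨h1, h2⟩ := h.not_dvd_commutator ((h.count_iff ht).mp he)
    refine ⟨?_, isCyclic_of_prime_card (p := p) (by rw [← Subgroup.index_eq_card]; exact h1), h1⟩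
    have e1 := D.index_mul_card
    have e2 := N.index_mul_card
    rw [h1] at e1
    have hN : Nat.card N = p := by
      change Nat.card (normalizer (zpowers x : Set G)) = p
      rw [h2, h.card_zpowers]
    rw [hN, hidx] at e2
    exact Nat.eq_of_mul_eq_mul_left h.prime.pos (by rw [e1, ← e2, mul_comm])
  -- case t < p - 1, G'' ≠ G'
  have hB : t < p - 1 → derivedSeries G 2 ≠ derivedSeries G 1 →
      Nat.card (derivedSeries G 2) = 1 + n * p ∧ Nat.card D = p * (1 + n * p) := by
    intro hlt hne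
    rw [hd1, hd2] at hne
    have hpD : p ∣ Nat.card D := by
      by_contra hcon
      exact hlt.ne ((h.count_iff ht).mpr hcon)
    set O := Cfsg.pPrimeCore p G
    have hOD : O ≤ D := h.pPrimeCore_le
    have hDD : (⁅D, D⁆ : Subgroup G) ≤ O := by
      refine CfsgLib.PCore.le_pPrimeCore_of_not_dvd inferInstance fun hd => hne ?_
      exact le_antisymm (Subgroup.commutator_le_right D D) (h.commutator_le _ hd)
    have hxD : x ∈ D := h.mem_of_dvd D hpD
    have hDD' : O ≤ ⁅D, D⁆ := by
      intro a ha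
      obtain ⟨s, hs, e⟩ := h.exists_conj_eq (CfsgLib.PCore.not_dvd_card_pPrimeCore) ha
      have h1 : s⁻¹ * x * s * x⁻¹ = ⁅s⁻¹, x⁆ := by rw [commutatorElement_def, inv_inv]
      rw [← e, h1]
      exact Subgroup.commutator_mem_commutator (D.inv_mem (hOD hs)) hxD
    have hEq : (⁅D, D⁆ : Subgroup G) = O := le_antisymm hDD hDD'
    have hsimp := h.simple_quotient hpD inferInstance
    have hcomm : IsMulCommutative (↥D ⧸ O.subgroupOf D) := by
      refine Subgroup.Normal.quotient_commutative_iff_commutator_le.mpr ?_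
      rw [_root_.commutator_def, Subgroup.commutator_le]
      intro a _ b _
      rw [mem_subgroupOf, ← hEq]
      exact Subgroup.commutator_mem_commutator a.2 b.2
    have hprime : (Nat.card (↥D ⧸ O.subgroupOf D)).Prime := by
      letI : CommGroup (↥D ⧸ O.subgroupOf D) :=
        { (inferInstance : Group (↥D ⧸ O.subgroupOf D)) with mul_comm := hcomm.is_comm.comm }
      exact IsSimpleGroup.prime_card
    have hcard : Nat.card D = Nat.card (↥D ⧸ O.subgroupOf D) * Nat.card O := by
      rw [← Subgroup.index_eq_card, ← Nat.card_congr (subgroupOfEquivOfLe hOD).toEquiv]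
      exact (Subgroup.index_mul_card _).symm
    have hq : Nat.card (↥D ⧸ O.subgroupOf D) = p := by
      rw [hcard] at hpD
      rcases (Nat.Prime.dvd_mul h.prime).mp hpD with h1 | h1
      · exact ((Nat.prime_dvd_prime_iff_eq h.prime hprime).mp h1).symm
      · exact absurd h1 CfsgLib.PCore.not_dvd_card_pPrimeCore
    rw [hq] at hcard
    -- D = O P, G = D N = O N
    have hP : O ⊔ zpowers x = D := by
      refine eq_of_le_of_card_ge (sup_le hOD (zpowers_le.mpr hxD)) ?_
      rw [hcard]
      refine Nat.le_of_dvd Nat.card_pos (Nat.Coprime.mul_dvd_of_dvd_of_dvd ?_ ?_ ?_)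
      · exact h.prime.coprime_iff_not_dvd.mpr CfsgLib.PCore.not_dvd_card_pPrimeCore
      · exact h.card_zpowers ▸ card_dvd_of_le le_sup_right
      · exact card_dvd_of_le le_sup_left
    have htop : O ⊔ N = ⊤ := by
      rw [← h.sup_normalizer_eq_top D hpD]
      refine le_antisymm (sup_le_sup_right hOD _) (sup_le ?_ le_sup_right)
      rw [← hP]
      exact sup_le le_sup_left (le_normalizer.trans le_sup_right)
    have hc := h.card_sup_normalizer O CfsgLib.PCore.not_dvd_card_pPrimeCore
    rw [htop, card_top, ← N.index_mul_card, hidx] at hc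
    have hO : Nat.card O = 1 + n * p := (Nat.eq_of_mul_eq_mul_right Nat.card_pos hc).symm
    rw [hd2, hEq, hcard, hO]
    exact ⟨rfl, rfl⟩
  refine ⟨⟨?_, ?_⟩, hA, hB⟩
  · rintro ⟨S, hS, hcS⟩
    rcases (h.count_le ht).eq_or_lt with he | hlt
    · exact Or.inl he
    refine Or.inr ⟨hlt, fun heq => ?_⟩
    have hpD : p ∣ Nat.card D := by
      by_contra hcon
      exact hlt.ne ((h.count_iff ht).mpr hcon)
    have hpS : ¬ p ∣ Nat.card S := by
      rw [hcS, ← Nat.dvd_add_iff_left (dvd_mul_left p n)]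
      exact h.prime.not_dvd_one
    have htop : S ⊔ N = ⊤ := by
      refine eq_top_of_card_eq _ ?_
      rw [h.card_sup_normalizer S hpS, hcS, ← hidx, N.index_mul_card]
    have hSP : (S ⊔ zpowers x).Normal := by
      refine ⟨fun a ha g => ?_⟩
      have hg : g ∈ ((S : Set G) * (N : Set G)) := by rw [← normal_mul, htop]; trivial
      obtain ⟨s, hs, m, hm, rfl⟩ := hg
      rw [show s * m * a * (s * m)⁻¹ = s * (m * a * m⁻¹) * s⁻¹ by group]
      refine mul_mem (mul_mem (mem_sup_left hs) ?_) (mem_sup_left (S.inv_mem hs))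
      have ha' : a ∈ ((S : Set G) * (zpowers x : Set G)) := by rw [← normal_mul]; exact ha
      obtain ⟨u, hu, v, hv, rfl⟩ := ha'
      rw [show m * (u * v) * m⁻¹ = (m * u * m⁻¹) * (m * v * m⁻¹) by group]
      exact mul_mem (mem_sup_left (hS.conj_mem u hu m))
        (mem_sup_right ((mem_normalizer_iff.mp hm v).mp hv))
    have hDSP : D ≤ S ⊔ zpowers x := h.commutator_le _
      (h.card_zpowers ▸ card_dvd_of_le le_sup_right)
    have h2 : derivedSeries G 2 ≤ S := by
      rw [hd2]
      refine (Subgroup.commutator_mono hDSP hDSP).trans ?_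
      rw [Subgroup.commutator_le]
      intro a ha b hb
      have ha' : a ∈ ((S : Set G) * (zpowers x : Set G)) := by rw [← normal_mul]; exact ha
      have hb' : b ∈ ((S : Set G) * (zpowers x : Set G)) := by rw [← normal_mul]; exact hb
      obtain ⟨u, hu, v, hv, rfl⟩ := ha'
      obtain ⟨u', hu', v', hv', rfl⟩ := hb'
      rw [← QuotientGroup.eq_one_iff]
      obtain ⟨i, rfl⟩ := mem_zpowers_iff.mp hv
      obtain ⟨j, rfl⟩ := mem_zpowers_iff.mp hv'
      have e1 : ((u : G) : G ⧸ S) = 1 := (QuotientGroup.eq_one_iff u).mpr hu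
      have e2 : ((u' : G) : G ⧸ S) = 1 := (QuotientGroup.eq_one_iff u').mpr hu'
      simp only [commutatorElement_def, QuotientGroup.mk_mul, QuotientGroup.mk_inv, e1, e2, one_mul,
        QuotientGroup.mk_zpow]
      group
    rw [heq, hd1] at h2
    exact hpS (hpD.trans (card_dvd_of_le h2))
  · rintro (he | ⟨hlt, hne⟩)
    · exact ⟨D, inferInstance, (hA he).1⟩
    · refine ⟨derivedSeries G 2, ?_, (hB hlt hne).1⟩
      rw [hd2]; infer_instance

end CfsgLib.SelfCentral
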